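import Cfsg.Agent.MK.S3.Vec
import Cfsg.Agent.S0399
import Cfsg.Agent.S0401
import Cfsg.Agent.S2069
import Cfsg.Agent.S2070
import Cfsg.Agent.S2071
import Cfsg.Agent.H49.CoStab
import Cfsg.Agent.KFacts.MulCo.CoZero
import Cfsg.Agent.H769.RowCo3
import Cfsg.Agent.H208.SelfCoOne
import Cfsg.Agent.H208.SelfCoTwoTh
import Cfsg.Agent.TAB.Co1.Tab
import Cfsg.Agent.TAB.Co2.Main
import Cfsg.Agent.TAB.Co3.Main

/-!
# MK, the small rows of `Co1`, `Co2`, `Co3` (helper46)
-/

set_option autoImplicit false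
set_option maxRecDepth 100000

namespace Cfsg.Agent.MK.S3

open Cfsg Subgroup Cfsg.Agent.MK.T Cfsg.Agent.MK.S Cfsg.Agent.MK.S.Pc Cfsg.Agent.H49.CoStab

theorem a2_co0 : a2 Co0 = 32 := by
  have := finite_co0
  rw [a2_of_emb (V (el xs0) 22 0).subtype (subtype_injective _) ab0.1 (k := 1982582476875) (by decide)
    (by rw [S0397.result]; norm_num), ab0.2]
  rfl

theorem a2_co1 : a2 Spor.Co1 = 32 := by
  have := finite_co0
  rw [← a2_co0]
  exact (a2_central (QuotientGroup.mk' _) (QuotientGroup.mk'_surjective _) (QuotientGroup.ker_mk' _).le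
    (KFacts.MulCo.CoZero.commutator_co0 ▸ le_top)).symm

theorem a2_co2 : a2 Spor.Co2 = 32 := by
  have := finite_co0
  have := finite_co2
  let e : MulAction.stabilizer Co0 Spor.leechU ≃* Spor.Co2 := equivSt Spor.leechU
  rw [a2_of_emb (e.toMonoidHom.comp (inclusion fix2)) (e.injective.comp (inclusion_injective fix2)) ab2.1
    (k := 161382375) (by decide) (by rw [card_co2]; norm_num), ab2.2]
  rfl

theorem a2_co3 : a2 Spor.Co3 = 16 := by
  have := finite_co0
  have := finite_co3
  obtain ⟨g, hg⟩ := S0401.result w3 Spor.leechV norm_3 norm_V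
  let e : MulAction.stabilizer Co0 w3 ≃* Spor.Co3 :=
    (MulAction.stabilizerEquivStabilizer hg.symm).trans (equivSt Spor.leechV)
  rw [a2_of_emb (e.toMonoidHom.comp (inclusion fix3)) (e.injective.comp (inclusion_injective fix3)) ab3.1
    (k := 484147125) (by decide) (by rw [card_co3]; norm_num), ab3.2]
  rfl

/-- **the row of `Co1`** -/
theorem co1 : SmS Spor.Co1 := fun _ => by
  have := finite_co0
  obtain ⟨hs, hc⟩ := S0399.result
  refine sm_of_one (center_bot (by rw [hc]; norm_num)) S2069.result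
    ((m0_iff (H208.selfN_co1 ⟨MulEquiv.refl _⟩)).2 ?_)
  rw [a2_co1, k0_of_degList TAB.Co1.deg]
  decide +kernel

/-- **the row of `Co2`** -/
theorem co2 : SmS Spor.Co2 := fun _ => by
  have := finite_co2
  have := simple_co2
  refine sm_of_one (center_bot (by rw [card_co2]; norm_num)) S2070.result
    ((m0_iff (H208.selfN_co2 ⟨MulEquiv.refl _⟩)).2 ?_)
  rw [a2_co2, k0_of_degList TAB.Co2.deg]
  decide +kernel

/-- **the row of `Co3`** -/
theorem co3 : SmS Spor.Co3 := fun _ => by
  have := finite_co3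
  have := simple_co3
  refine sm_of_one (center_bot (by rw [card_co3]; norm_num)) S2071.result
    ((m0_iff (H769.RowCo3.self ⟨MulEquiv.refl _⟩)).2 ?_)
  rw [a2_co3, k0_of_degList TAB.Co3.deg]
  decide +kernel

end Cfsg.Agent.MK.S3
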