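import Cfsg.Agent.MK.S3.Vec
import Cfsg.Agent.S2073
import Cfsg.Agent.H799.MTSyl
import Cfsg.Agent.H41.McLTwo.Pack
import Cfsg.Agent.TAB.McL.Main
import Cfsg.Agent.MK.S86.McLCov

/-!
# MK, the small rows of `McL` and `3.McL` (helper46)
-/

set_option autoImplicit false
set_option maxRecDepth 100000

namespace Cfsg.Agent.MK.S3

open Cfsg Subgroup Cfsg.Agent.MK.T Cfsg.Agent.MK.S Cfsg.Agent.MK.S.Pc Cfsg.Agent.H997.OutMcL Cfsg.Spor
  Cfsg.Agent.SporadicA.Co0Basic

theorem card_mcl : Nat.card McL = 898128000 := TypeM.FactsMcL.exists_mt_mcl.2.2.1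

theorem center_mcl : center McL = ⊥ := by
  obtain ⟨h1, h2, h3, -⟩ := TypeM.FactsMcL.exists_mt_mcl
  exact center_bot (by rw [h3]; norm_num)

theorem selfN_mcl : QTNorm.SelfN McL := by
  obtain ⟨h1, -, -, ⟨L⟩⟩ := TypeM.FactsMcL.exists_mt_mcl
  exact H799.MTSyl.normalizer_le (by norm_num) (by norm_num) L

theorem a2_mcl : a2 McL = 8 := by
  have := finite_co0
  have := TAB.McL.finite
  let j : V (el xsM) 7 0 →* McL := (Co0.subtype.comp (V (el xsM) 7 0).subtype).codRestrict McL fun x =>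
    mem_McL.2 ⟨x.1.2, (fixM x.2).1, (fixM x.2).2⟩
  rw [a2_of_emb j (fun a b h => Subtype.ext (Subtype.ext (congrArg Subtype.val h :))) abM.1 (k := 7016625) (by decide)
    (by rw [card_mcl]; norm_num), abM.2]
  rfl

theorem k0_mcl : k0 McL = 8 := by
  rw [k0_of_degList TAB.McL.deg]
  decide

theorem m0_mcl : M0 McL :=
  haveI := TAB.McL.finite
  (m0_iff selfN_mcl).2 (k0_mcl.trans a2_mcl.symm)

/-- the stabilizer of the triangle normalises `McL` -/
theorem pr_norm {g : Co0} (hg : g ∈ Pr (-leechV) leechU) :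
    g.1 leechV = leechV ∧ (g.1 ∈ McL ∨ g.1 leechU = W ∧ g.1 W = leechU) ∧
      g.1 ∈ normalizer (McL : Set (Equiv.Perm leechLattice)) := by
  have h1 : g.1 leechV = leechV := neg_injective ((map_neg' g.2 _).symm.trans hg.1)
  rcases hg.2 with h | h
  · have h2 := mem_McL.2 ⟨g.2, h1, h⟩
    exact ⟨h1, Or.inl h2, le_normalizer h2⟩
  · have h2 : g.1 W = leechU := by
      rw [map_W g.2 h1, h, sub_sub_cancel]
    exact ⟨h1, Or.inr ⟨h, h2⟩, mem_normalizer g.2 h1 h h2⟩

/-- the action of the stabilizer of the triangle -/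
def actA : Pr (-leechV) leechU →* MulAut McL :=
  (normalizerMonoidHom McL).comp ((Co0.subtype.comp (Pr (-leechV) leechU).subtype).codRestrict _ fun g => (pr_norm g.2).2.2)

theorem actA_inj : Function.Injective actA := (injective_iff_map_eq_one _).2 fun g hg => by
  obtain ⟨h1, h2, -⟩ := pr_norm g.2
  have h3 : ∀ x ∈ McL, g.1.1 * x = x * g.1.1 := fun x hx =>
    mul_inv_eq_iff_eq_mul.1 (congrArg (fun β : MulAut McL => ((β ⟨x, hx⟩ : McL) : Equiv.Perm leechLattice)) hg)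
  have h4 : ∀ c ∈ McL, (∀ x ∈ McL, c * x = x * c) → c = 1 := fun c hc h => by
    have h5 : (⟨c, hc⟩ : McL) ∈ center McL := mem_center_iff.2 fun x => Subtype.ext (h x.1 x.2).symm
    rw [center_mcl, mem_bot] at h5
    exact congrArg Subtype.val h5
  rcases h2 with h2 | ⟨h5, h6⟩
  · exact Subtype.ext (Subtype.ext (h4 _ h2 h3))
  · have h7 : g.1.1 * g.1.1 = 1 := h4 _ (mem_McL.2 ⟨mul_mem g.1.2 g.1.2, by rw [Equiv.Perm.mul_apply, h1, h1],
      by rw [Equiv.Perm.mul_apply, h5, h6]⟩) fun x hx => by rw [mul_assoc, h3 x hx, ← mul_assoc, h3 x hx, mul_assoc]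
    by_contra h8
    exact no_central (c := ⟨g.1, h1⟩) (fun h => h8 (Subtype.ext (congrArg Subtype.val h :)))
      (Subtype.ext (Subtype.ext h7)) h3

theorem a2_aut_mcl : a2 (MulAut McL) = 8 := by
  have := finite_co0
  have := TAB.McL.finite
  have h48 : sqNorm ((-leechV : leechLattice) : GolayPt → ℤ) = 48 := by
    rw [coe_negV]
    decide +kernel
  have h32 : sqNorm ((leechU : leechLattice) : GolayPt → ℤ) = 32 := show sqNorm vecU = 32 by decide +kernel
  have hd : sqNorm ((-leechV - leechU : leechLattice) : GolayPt → ℤ) = 32 := by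
    rw [AddSubgroup.coe_sub, coe_negV, H997.OutMcL.coe_U]
    decide +kernel
  obtain ⟨b, b1, b2⟩ := Leech.Co3Trans.config S0401.result norm_3 ⟨norm_A, norm_B⟩
  obtain ⟨c, c1, c2⟩ := Leech.Co3Trans.config S0401.result h48 ⟨h32, hd⟩
  obtain ⟨g, g1, g2⟩ : ∃ g : Co0, g.1 (-leechV) = w3 ∧ g.1 leechU = wA :=
    ⟨b⁻¹ * c, show (b⁻¹ * c) • (-leechV) = w3 by rw [mul_smul, c1, ← b1, inv_smul_smul],
      show (b⁻¹ * c) • leechU = wA by rw [mul_smul, c2, ← b2, inv_smul_smul]⟩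
  have g3 : g.1 (-leechV - leechU) = w3 - wA := by rw [map_sub' g.2, g1, g2]
  have e : ∀ (x : Co0) (v : leechLattice), (MulAut.conj g⁻¹ x).1 v = g.1⁻¹ (x.1 (g.1 v)) := fun x v => by
    rw [MulAut.conj_apply, inv_inv]
    rfl
  let j : V (el xsA) 8 0 →* Pr (-leechV) leechU :=
    ((MulAut.conj g⁻¹).toMonoidHom.comp (V (el xsA) 8 0).subtype).codRestrict _ fun x =>
      ⟨(e _ _).trans (Equiv.Perm.inv_eq_iff_eq.2 (by rw [g1]; exact (fixA x.2).1)),
        (fixA x.2).2.imp (fun h => (e _ _).trans (Equiv.Perm.inv_eq_iff_eq.2 (by rw [g2]; exact h)))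
          fun h => (e _ _).trans (Equiv.Perm.inv_eq_iff_eq.2 (by rw [g2, g3]; exact h))⟩
  have hj : Function.Injective j := fun a b h => Subtype.ext ((MulAut.conj g⁻¹).injective (congrArg Subtype.val h))
  rw [a2_of_emb (actA.comp j) (actA_inj.comp hj) abA.1 (k := 7016625) (by decide)
    (by rw [card_aut center_mcl S2073.result, card_mcl]; norm_num), abA.2]
  rfl

open Cfsg.Agent.H41.McLTwo Cfsg.Agent.H359.CT.McL in
theorem f0_mcl {α : MulAut McL} (hα : α ∉ (MulAut.conj : McL →* MulAut McL).range) : f0 α = 4 := by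
  have := TAB.McL.finite
  obtain ⟨e⟩ := iso_K0
  have hT : IsoMcL McL := ⟨MulEquiv.refl _⟩
  have hα' : ¬ ∃ s, α = MulAut.conj s := fun ⟨s, h⟩ => hα ⟨s, h.symm⟩
  let M : McLData McL := McLData.mk' e.symm (clT e.symm) (fun _ => rfl) (fun _ => rfl) (tab e.symm)
    (fun a => (R a 0).toNat) (fun b => (P b 0).toNat / 2) (fun _ => rfl) (fun _ => rfl) (by decide +kernel)
    (by decide +kernel) (by decide +kernel) (by decide +kernel) (by decide +kernel) (by decide +kernel)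
  have h1 := (count_inv M.Θ (α : McL ≃* McL) (q := 11) (by norm_num) (M.hA hT hα') (M.hB hT hα')
    (fun b => !(11 ∣ M.dP b : Bool)) (fun b hb => by
      rw [card_mcl, show (898128000 : ℕ).factorization 11 = 1 by decide +kernel, pow_one, M.hdP]
      exact dvd_of_false hb)
    (by rw [M.nP, M.cls.card_inv hT M.h1 M.h1' M.h2 M.h3 hα']; exact M.n14) Odd
    (fun a => M.dR a % 2 == 1) (fun b => M.dP b % 2 == 1)
    (fun a => by rw [M.hdR, Nat.odd_iff, beq_iff_eq]) (fun b => by rw [M.hdP, Nat.odd_iff, beq_iff_eq])).1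
  have h2 : (Finset.univ.filter fun a : Fin 12 => ((R a 0).toNat % 2 == 1) = true).card + 2 * (Finset.univ.filter
      fun b : Fin 6 => ((P b 0).toNat / 2 % 2 == 1 && !(11 ∣ (P b 0).toNat / 2 : Bool)) = true).card = 4 := by
    decide +kernel
  rw [← h2]
  refine Eq.trans (Nat.card_congr ?_) h1
  exact ⟨fun χ => ⟨⟨χ.1, χ.2.1.1⟩, χ.2.1.2, funext χ.2.2⟩, fun χ => ⟨χ.1.1, ⟨χ.1.2, χ.2.1⟩, congrFun χ.2.2⟩,
    fun _ => rfl, fun _ => rfl⟩

/-- **the row of `McL`** -/
theorem mcl : SmS McL := fun _ => by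
  have := TAB.McL.finite
  obtain ⟨α, -, hα⟩ := exists_out (X := McL) S2073.result default
  exact sm_of_self center_mcl S2073.result selfN_mcl (k0_mcl.trans a2_mcl.symm) hα (by rw [f0_mcl hα, a2_aut_mcl])

/-- **the row of `3.McL`** -/
theorem mcl3 : SmC McL := S86.mcl3_of fun _ => m0_mcl

end Cfsg.Agent.MK.S3
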