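import Cfsg.Agent.MK.S3.Mono

/-!
# MK, certificates for the Sylow `2`-subgroups of `Co0`, `Co2`, `McL`, `Co3`, `McL : 2` (helper46; generated)
-/

set_option autoImplicit false
set_option maxRecDepth 100000

namespace Cfsg.Agent.MK.S3

open Cfsg Subgroup Cfsg.Agent.MK.T Cfsg.Agent.MK.S.Pc

/-- generators -/
def xs0 : List (ℕ × ℕ) :=
  [(15543624, 714492537887912450346816075997841440),
   (12184187, 594984655461829171842426181225874161),
   (12171271, 971592882964418941354553515258775584),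
   (11287691, 11291325422105454740853277770976823),
   (1923308, 593969939523970931426994680622515269),
   (10916112, 983548720921252936276249910206105632),
   (0, 732426436577832575389428709140304928),
   (11921484, 984818244535754528103549039458486304),
   (15520991, 234128196622829354333236483683534275),
   (11463048, 732588211819866450332372525890606081),
   (7770270, 981818691054096003685363657089320992),
   (2141072, 981818691054096003685363657089320992),
   (12153634, 976448692869377735270425038196672544),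
   (16756099, 968708902336673183175954409307867168),
   (15933395, 984818244535754528103549039458486304),
   (7641639, 984818244535754528103549039458486304),
   (11776356, 984818244535754528103549039458486304),
   (15970228, 984818244535754528103549039458486304),
   (5350928, 984818244535754528103549039458486304),
   (15945135, 984818244535754528103549039458486304),
   (832080, 984818244535754528103549039458486304),
   (8241104, 984818244535754528103549039458486304)]

/-- relations -/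
def c0 : Cert where
  gw := [[0], [1], [2], [3], [4], [5], [6], [7], [8], [9], [10], [11], [12], [13], [14], [15], [16], [17], [18], [19],
      [20], [21]]
  sq := [[5, 10, 12, 16, 18, 21], [7, 8, 10, 14, 15, 19, 21], [14, 15, 16, 20, 21], [10, 11, 13, 15, 17, 20], [13, 14,
      16, 17, 19], [16, 17, 18, 21], [], [], [17], [20], [18, 21], [], [21], [], [], [], [], [], [], [], [], []]
  cm := [[[], [5, 6, 7, 10, 12, 15, 16, 17, 18, 19, 20, 21], [5, 13, 14, 16, 17, 20, 21], [9, 10, 15, 17, 20, 21], [5,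
      10, 12, 13, 15, 20, 21], [14, 15, 17, 18, 21], [10, 11, 12, 13, 14, 15, 16, 18, 19, 20, 21], [10, 12, 13, 14,
      15, 16, 19, 21], [9, 10, 11, 13, 16, 17, 18, 20], [15, 16, 17, 19, 21], [13, 14, 15, 18, 19, 20, 21], [13, 15,
      16], [13, 17, 18, 19, 21], [18, 20, 21], [16, 17, 20], [20], [18, 20], [18, 21], [20], [21], [21], []],
    [[], [], [5, 10, 11, 13, 16, 18, 19, 20], [6, 8, 10, 11, 12, 13, 15, 16, 18], [5, 6, 7, 8, 9, 10, 11, 16, 17, 18],
        [11, 13, 14, 15, 16, 17, 19, 20, 21], [9, 11, 14, 17, 19, 20], [11, 12, 13, 14, 16, 18, 19, 21], [11, 12, 13,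
        16, 18, 19, 20, 21], [18], [14, 18, 20], [18], [18], [17, 18, 19, 21], [17, 19], [17, 18, 20, 21], [18, 19,
        20], [19, 21], [20], [], [], []],
    [[], [], [], [10, 11, 13, 14, 16, 17, 18, 21], [10, 11, 14, 15, 16, 18, 19, 20], [18, 21], [11, 13, 14, 17, 18,
        20], [14, 15, 16, 18, 21], [11, 13, 14, 16, 17, 19, 20], [13, 14, 16, 18], [16, 17, 20], [18], [14, 15, 16,
        18, 21], [16, 17, 18, 21], [16, 17, 21], [16, 17, 18, 20], [18, 20], [18, 20], [21], [21], [21], []],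
    [[], [], [], [], [13, 15, 17, 19, 21], [13], [9, 10, 11, 12, 13, 16, 17, 18, 19], [10, 11, 18, 19], [9, 10, 11,
        12, 15, 16, 17, 21], [13, 14, 15, 16, 17, 18, 21], [13, 15, 16, 20], [13, 15, 16, 18, 20, 21], [13, 14, 15,
        17], [16, 17, 18, 21], [20], [16, 17, 19], [19], [19, 21], [21], [], [], []],
    [[], [], [], [], [], [15, 16, 17, 18, 19, 20, 21], [9, 14, 17, 18, 19], [10, 11, 14, 15, 17], [9, 10, 11, 13, 14,
        17, 19, 20], [16, 17, 18, 20, 21], [13, 14, 16, 17, 20, 21], [13, 14], [13, 14, 15, 21], [16, 17, 19, 20, 21],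
        [16, 17, 19, 20], [20, 21], [18, 19, 20], [18, 19, 20], [], [21], [21], []],
    [[], [], [], [], [], [], [13, 14, 18, 21], [14, 15, 16, 18], [14, 15, 18, 21], [18, 20], [16, 17, 20, 21], [18],
        [18, 20], [], [20], [], [20, 21], [20], [21], [], [], []],
    [[], [], [], [], [], [], [], [17, 20], [17, 18, 20, 21], [], [17, 21], [], [17, 20], [], [], [18, 21], [20, 21],
        [], [], [], [], []],
    [[], [], [], [], [], [], [], [], [18, 19, 21], [17, 18, 21], [18], [18], [21], [18, 21], [], [], [], [], [], [],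
        [], []],
    [[], [], [], [], [], [], [], [], [], [17, 19, 20, 21], [17, 18, 19, 20], [20, 21], [18, 21], [18, 19], [19, 20,
        21], [19, 21], [20, 21], [], [], [], [], []],
    [[], [], [], [], [], [], [], [], [], [], [18, 19, 20], [20], [19], [20], [20], [], [21], [], [], [], [], []],
    [[], [], [], [], [], [], [], [], [], [], [], [18, 21], [18, 20, 21], [20, 21], [20], [20], [21], [], [], [], [],
        []],
    [[], [], [], [], [], [], [], [], [], [], [], [], [20, 21], [20], [20], [20], [21], [], [], [], [], []],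
    [[], [], [], [], [], [], [], [], [], [], [], [], [], [], [20], [20, 21], [21], [], [], [], [], []],
    [[], [], [], [], [], [], [], [], [], [], [], [], [], [], [], [21], [], [], [], [], [], []],
    [[], [], [], [], [], [], [], [], [], [], [], [], [], [], [], [], [], [], [], [], [], []],
    [[], [], [], [], [], [], [], [], [], [], [], [], [], [], [], [], [], [], [], [], [], []],
    [[], [], [], [], [], [], [], [], [], [], [], [], [], [], [], [], [], [], [], [], [], []],
    [[], [], [], [], [], [], [], [], [], [], [], [], [], [], [], [], [], [], [], [], [], []],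
    [[], [], [], [], [], [], [], [], [], [], [], [], [], [], [], [], [], [], [], [], [], []],
    [[], [], [], [], [], [], [], [], [], [], [], [], [], [], [], [], [], [], [], [], [], []],
    [[], [], [], [], [], [], [], [], [], [], [], [], [], [], [], [], [], [], [], [], [], []],
    [[], [], [], [], [], [], [], [], [], [], [], [], [], [], [], [], [], [], [], [], [], []]]
  dv := [([], [], []),
    ([], [], []),
    ([], [], []),
    ([], [], []),
    ([], [], []),
    ([1, 2, 3, 5, 6, 7, 10, 11, 14, 15, 16, 20, 21], [2, 6, 7, 11, 14, 15, 16, 19, 20, 21], []),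
    ([1, 2, 4, 6, 12, 14, 16, 17, 18, 19, 21], [0, 1, 2, 3, 5, 8, 12, 16, 19, 21], []),
    ([2, 3, 4, 6, 8, 9, 10, 12, 14, 15, 18, 19, 20, 21], [1, 2, 3, 6, 8, 10, 12, 13, 14, 15, 16, 17, 18, 19, 20], []),
    ([0, 2, 4, 8, 9, 11, 12, 18, 20, 21], [0, 1, 3, 4, 6, 9, 11, 13, 15, 16, 17, 18, 20], []),
    ([1, 2, 5, 6, 10, 13, 14, 16, 18, 19, 20, 21], [5, 6, 7, 8, 9, 10, 11, 13, 14, 16, 17, 18, 21], []),
    ([0, 1, 7, 8, 9, 10, 11, 12, 13, 14, 16, 17, 19, 20, 21], [5, 6, 7, 8, 9, 20, 21], []),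
    ([0, 1, 2, 3, 5, 6, 8, 12, 13, 14, 16, 18, 19, 21], [5, 8, 9, 11, 12, 15, 17, 21], []),
    ([1, 2, 7, 9, 10, 11, 16, 18, 20, 21], [8, 10, 11, 14, 20], []),
    ([0, 3, 4, 8, 13, 14, 15, 17, 21], [12, 16, 18, 20, 21], []),
    ([1, 2, 4, 6, 7, 17, 20], [10, 11, 14, 16, 18, 19, 20, 21], []),
    ([0, 1, 2, 3, 4, 5, 6, 10, 14, 17, 19, 20, 21], [11, 12, 13, 14, 16, 17, 18, 20, 21], []),
    ([1, 2, 5, 6, 10, 13, 14, 16, 18, 19, 20, 21], [15, 20, 21], []),
    ([0, 1, 2, 3, 5, 7, 8, 9, 11, 15, 17, 18, 21], [13, 14, 15, 17, 21], []),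
    ([0, 1, 4, 6, 8, 9, 10, 13, 14, 15, 18, 20], [16, 18, 20], []),
    ([1, 2, 5, 6, 10, 13, 14, 16, 18, 19, 20, 21], [16, 18, 20], []),
    ([1, 2, 5, 6, 7, 8, 11, 15, 18, 20], [18, 21], []),
    ([0, 2, 4, 8, 9, 12, 14, 16, 17, 20], [20, 21], [])]

/-- the chain of stabilizers -/
def lv0 : List (ℕ × List (List ℕ)) :=
  [(6, [[], [0], [5, 10, 12, 16, 18, 21], [0, 5, 10, 12, 16, 18, 21], [0, 1, 6, 7, 9, 12, 13, 15, 16, 17, 18, 19, 20],
      [0, 5, 7, 8, 9, 11, 13, 14, 15, 18, 19, 20, 21], [0, 1, 6, 8, 10, 11, 14, 19], [1, 5, 6, 8, 12, 13, 14, 15, 18,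
      19], [0, 1, 5, 6, 8, 12, 13, 14, 15, 18, 19], [1, 6, 8, 10, 11, 14, 19, 21], [1, 5, 10, 12, 16, 18, 21], [5, 7,
      8, 12, 14, 15, 16, 17, 19, 21], [0, 1, 5, 6, 7, 9, 10, 16, 17, 19, 20, 21], [0, 7, 8, 9, 10, 11, 12, 13, 14, 15,
      16, 17, 19, 20], [1], [7, 8, 10, 14, 15, 19, 21]]),
   (8, [[], [21], [6, 7, 13, 16, 19], [6, 7, 13, 16, 19, 21], [6, 7, 11, 13, 16, 17, 18, 19, 20, 21], [11, 21], [11],
       [6, 7, 11, 13, 16, 19, 20], [0, 6, 7, 9, 12, 17, 19, 20], [5, 6, 7, 10, 11, 12, 13, 20, 21], [0, 5, 6, 7, 9,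
       10, 16, 17, 18, 20], [0, 5, 9, 10, 11, 15, 16, 17, 19, 21], [0, 5, 9, 10, 13, 18, 19, 20], [0, 5, 6, 7, 9, 10,
       11, 13, 15, 17, 20, 21], [0, 5, 6, 7, 9, 10, 11, 13, 15, 17, 20], [0, 5, 9, 10, 13, 17, 18, 19, 20], [0, 5, 9,
       10, 11, 15, 16, 19, 21], [0, 5, 6, 7, 9, 10, 16, 17, 18, 20, 21], [5, 10, 11, 12, 16, 18, 19, 20, 21], [5, 10,
       12, 16, 17, 18, 19, 20, 21], [5, 6, 7, 10, 12, 13, 18], [5, 6, 7, 10, 11, 12, 13, 17], [5, 10, 11, 12, 16, 17,
       18, 19], [5, 10, 12, 16, 18, 19], [5, 6, 7, 10, 12, 13, 17, 18, 20, 21], [0, 9, 11, 12, 13, 16, 17], [0, 6, 7,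
       9, 12, 19, 21], [0, 9, 11, 12, 13, 16, 20, 21], [0, 6, 7, 9, 12, 13, 15, 16, 19], [0, 9, 11, 12, 15, 20], [0,
       6, 7, 9, 12, 13, 15, 16, 17, 19, 20, 21], [0, 9, 11, 12, 15, 17, 21]]),
   (4, [[], [17, 18], [6, 7, 15, 19], [6, 7, 15, 17, 18, 19], [1, 3, 7, 8, 9, 10, 11, 12, 13, 14, 15], [1, 3, 7, 8, 9,
       12, 13, 19, 20], [0, 1, 2, 3, 5, 6, 8, 10, 13, 16, 18, 20], [0, 1, 2, 3, 5, 6, 8, 10, 13, 16, 17, 20]]),
   (12, [[], [18, 20]]),
   (14, [[], [20, 21], [0, 2, 6, 7, 9, 12, 16, 17, 18, 19], [0, 2, 6, 7, 9, 12, 16, 17, 18, 19, 20, 21]]),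
   (0, [[], [10, 12, 13, 14, 16, 17, 18, 19]]),
   (16, [[], [16, 17, 21]]),
   (18, [[], [14, 15, 17, 18, 20]]),
   (2, [[], [10, 11, 15, 16, 18, 19, 21]]),
   (22, [[], [10, 12, 13, 18, 19]]),
   (20, [[], [2, 3, 4, 6, 8, 9, 10, 12, 14, 15, 18, 19, 20, 21]]),
   (10, [[], [2, 3, 4, 6, 7, 8, 9, 13, 15, 17, 21]])]

/-- generators -/
def xs2 : List (ℕ × ℕ) :=
  [(4094736, 981966865742050796798122466532705344),
   (4568278, 984600170262332565272975762020961312),
   (1553300, 12472757220049209655179360455429687),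
   (7028470, 984189450834467603338075246832979488),
   (5051380, 981758881220424975898170793032485920),
   (157028, 975346028712660580592452217730074656),
   (8295236, 979570279376305410639310744576921120),
   (3147996, 970499966350631336865513127433832480),
   (416040, 984189450834467603338075246832979488),
   (5842956, 984818244535754528103549039458486304),
   (1584464, 975346028712660580592452217730074656),
   (5024896, 968708902336673183175954409307867168),
   (5538256, 984818244535754528103549039458486304),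
   (1245726, 984818244535754528103549039458486304),
   (7079696, 984818244535754528103549039458486304),
   (6337856, 984818244535754528103549039458486304),
   (5024896, 984818244535754528103549039458486304),
   (8241104, 984818244535754528103549039458486304)]

/-- relations -/
def c2 : Cert where
  gw := [[0], [1], [2], [3], [4], [5], [6], [7], [8], [9], [10], [11], [12], [13], [14], [15], [16], [17]]
  sq := [[7, 8, 9, 12, 15], [9, 12, 14, 16], [11, 13, 14, 15, 16, 17], [9, 12, 14, 17], [6, 8, 10, 12, 13], [], [11,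
      12, 13, 14, 16, 17], [14, 15, 16], [13, 15, 17], [], [], [], [], [], [], [], [], []]
  cm := [[[], [5, 6, 10, 11, 13, 16, 17], [6, 8, 9, 10, 11, 12, 14, 15, 16], [5, 9, 15], [6, 7, 9, 10, 13, 15, 17],
      [9, 11, 14, 16, 17], [11, 12, 13, 14], [10, 13, 15, 17], [10, 12, 16], [12, 13, 14, 15], [11, 12, 15, 16], [14],
      [14, 16], [15, 17], [15, 16, 17], [16, 17], [17], []],
    [[], [], [7, 12, 13, 15], [6, 7, 8, 9, 10, 12, 14, 15, 16, 17], [6, 8, 9, 10, 12, 13, 15, 17], [9, 11, 12, 15],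
        [9, 11, 13, 17], [12, 15, 16], [9, 12, 13, 14, 15, 16, 17], [14, 15, 16, 17], [11, 14, 17], [15, 17], [14,
        15], [16, 17], [16, 17], [16, 17], [], []],
    [[], [], [], [6, 7, 8, 9, 12, 15, 17], [6, 8, 9, 10, 12, 13, 14, 15, 16], [12, 13, 16, 17], [10, 17], [14, 15,
        16], [10, 12, 15, 16], [12, 15, 17], [15, 16], [15, 16, 17], [16, 17], [15, 16, 17], [], [17], [17], []],
    [[], [], [], [], [6, 7, 8, 13, 14, 16, 17], [12, 13, 16, 17], [9, 11, 13, 14, 16], [11, 17], [9, 12, 13, 14, 15],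
        [15, 17], [12, 15, 16], [14, 15, 16, 17], [15, 16], [], [16, 17], [], [], []],
    [[], [], [], [], [], [9, 11, 14, 15, 16], [10, 11, 14, 15, 17], [12], [10, 12, 15], [12, 14, 15, 16, 17], [11, 12,
        15, 17], [14, 15], [14, 15], [15, 17], [16, 17], [16, 17], [17], []],
    [[], [], [], [], [], [], [12, 13, 15, 16, 17], [12, 17], [13, 15, 17], [15, 16, 17], [], [15], [], [], [17], [],
        [], []],
    [[], [], [], [], [], [], [], [11, 12, 15, 17], [11, 12, 14, 15], [14, 15, 16, 17], [16], [15, 16, 17], [15, 16,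
        17], [16, 17], [16, 17], [17], [], []],
    [[], [], [], [], [], [], [], [], [11, 12, 14, 15, 16, 17], [14, 15, 16, 17], [15, 16, 17], [16, 17], [17], [16,
        17], [17], [17], [], []],
    [[], [], [], [], [], [], [], [], [], [15, 17], [], [15, 16], [15, 16], [], [16, 17], [], [], []],
    [[], [], [], [], [], [], [], [], [], [], [15, 16, 17], [16], [], [], [], [], [], []],
    [[], [], [], [], [], [], [], [], [], [], [], [17], [], [], [17], [], [], []],
    [[], [], [], [], [], [], [], [], [], [], [], [], [17], [], [], [], [], []],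
    [[], [], [], [], [], [], [], [], [], [], [], [], [], [], [], [], [], []],
    [[], [], [], [], [], [], [], [], [], [], [], [], [], [], [], [], [], []],
    [[], [], [], [], [], [], [], [], [], [], [], [], [], [], [], [], [], []],
    [[], [], [], [], [], [], [], [], [], [], [], [], [], [], [], [], [], []],
    [[], [], [], [], [], [], [], [], [], [], [], [], [], [], [], [], [], []],
    [[], [], [], [], [], [], [], [], [], [], [], [], [], [], [], [], [], []]]
  dv := [([], [], []),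
    ([], [], []),
    ([], [], []),
    ([], [], []),
    ([], [], []),
    ([0, 1, 2, 5, 7, 9, 10, 12, 14], [0, 1, 2, 3, 5, 8, 10, 15], []),
    ([0, 2, 3, 7, 8, 12, 13, 16, 17], [0, 2, 3, 4, 6, 7, 8, 10, 15, 16], []),
    ([3, 4, 7, 8, 9, 16], [1, 5, 6, 8, 9, 14, 15, 17], []),
    ([0, 2, 5, 6, 8, 9, 10, 11, 12, 13, 15, 16], [0, 1, 2, 3, 5, 8, 10, 15], []),
    ([3, 5, 6, 7, 13, 15], [5, 6, 7, 9, 10, 11, 12, 13, 15, 16], []),
    ([0, 1, 2, 3, 6, 7, 9, 12, 13, 14, 15, 16], [7, 9, 11, 12, 16], []),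
    ([1, 5, 6, 8, 9, 11, 14, 15, 16, 17], [9, 10, 11, 12, 14, 15], []),
    ([2, 5, 6, 7, 10, 16], [9, 12, 14, 15, 16], []),
    ([0, 1, 4, 5, 7, 9, 11, 13, 14, 16, 17], [9, 11, 13, 15, 16], []),
    ([2, 3, 4, 5, 7, 8, 9, 13, 16, 17], [11, 12, 13, 15, 16, 17], []),
    ([0, 4, 7, 9, 12, 14, 16, 17], [14], []),
    ([2, 3, 4, 5, 6, 10, 12, 16], [15, 16], []),
    ([0, 1, 6, 7, 10, 15, 16, 17], [16], [])]

/-- the chain of stabilizers -/
def lv2 : List (ℕ × List (List ℕ)) :=
  [(2, [[], [0], [7, 8, 9, 12, 15], [0, 7, 8, 9, 12, 15], [11, 12, 13, 14], [0, 11, 12, 13, 14], [7, 8, 9, 11, 13, 14,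
      15, 17], [0, 7, 8, 9, 11, 13, 14, 15, 17]]),
   (8, [[], [17], [1, 11, 12, 13, 16], [1, 11, 12, 13, 16, 17], [5, 6, 7, 8, 10, 13, 14, 16, 17], [1, 12, 13, 15], [5,
       6, 7, 8, 10, 11, 13, 14, 15, 17], [1, 5, 6, 7, 8, 10, 12, 14], [11, 16, 17], [1, 5, 6, 7, 8, 10, 11, 12, 14],
       [5, 6, 7, 8, 9, 10, 12, 13, 14, 15, 16], [1, 9, 13, 15, 16], [5, 6, 7, 8, 9, 10, 11, 12, 13, 14, 16], [1, 5, 6,
       7, 8, 9, 10, 14, 15, 17], [9, 11, 12, 16, 17], [1, 5, 6, 7, 8, 9, 10, 11, 14, 15, 16, 17], [1, 2, 5, 6, 7, 9,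
       11, 13, 15], [1, 2, 5, 6, 7, 9, 11, 13, 14], [2, 8, 9, 10, 12, 13, 14, 15], [1, 2, 5, 6, 7, 9, 13, 14, 16], [1,
       2, 5, 6, 7, 9, 13, 15, 16], [2, 8, 9, 10, 11, 12, 13, 16, 17], [1, 2, 8, 9, 10, 17], [2, 8, 10, 11, 12, 13,
       17], [2, 7, 8, 10, 12, 13, 16], [1, 2, 5, 6, 11, 12, 13, 15, 17], [1, 2, 5, 6, 11, 12, 13, 14, 17], [2, 7, 8,
       10, 11, 12, 13, 14, 15, 17], [1, 2, 5, 6, 12, 13, 14, 16], [1, 2, 5, 6, 12, 13, 15, 16], [2, 7, 8, 10, 12, 13,
       14, 15, 16], [2, 7, 8, 10, 11, 12, 13, 14, 15]]),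
   (4, [[], [9, 12, 16, 17], [1, 5, 6, 8, 11, 12, 14, 15, 16], [1, 7, 12, 13, 15, 17]]),
   (14, [[], [16], [1, 2, 4, 5, 6, 7, 12, 13, 17], [1, 2, 4, 5, 8, 10, 13, 14, 15]]),
   (12, [[], [15]]),
   (16, [[], [14, 15, 16, 17]]),
   (6, [[], [5, 6, 7, 8, 9, 13, 14, 15]]),
   (18, [[], [12, 17]]),
   (10, [[], [6, 7, 8, 10, 12, 13, 14, 15, 16]]),
   (20, [[], [3, 8, 16, 17]])]

/-- generators -/
def xsM : List (ℕ × ℕ) :=
  [(0, 980710656739011332955649480301057472),
   (0, 961400888620683879678849889663618496),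
   (0, 967926363940294739940147074577908768),
   (0, 971592882964418941354553515258775584),
   (0, 967253231612594632296938810958713888),
   (0, 980224387687010295957922729495201824),
   (0, 967812279691448225500382947153381408)]

/-- relations -/
def cM : Cert where
  gw := [[0], [1], [2], [3], [4], [5], [6]]
  sq := [[6], [3, 4], [], [], [], [], []]
  cm := [[[], [3, 4, 6], [4, 6], [6], [], [6], []],
    [[], [], [4, 5, 6], [5, 6], [5, 6], [6], []],
    [[], [], [], [5], [], [], []],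
    [[], [], [], [], [6], [], []],
    [[], [], [], [], [], [], []],
    [[], [], [], [], [], [], []],
    [[], [], [], [], [], [], []]]
  dv := [([], [], []),
    ([], [], []),
    ([], [], []),
    ([1, 2, 3, 4, 5], [0, 3, 4, 5], []),
    ([2, 4, 5], [0, 2, 4], []),
    ([0, 2, 3, 5, 6], [3, 4, 5], []),
    ([0, 2, 3, 5, 6], [5, 6], [])]

/-- the chain of stabilizers -/
def lvM : List (ℕ × List (List ℕ)) :=
  [(2, [[], [0]]),
   (8, [[], [6], [0, 1], [0, 1, 6], [3, 4, 6], [0, 1, 3, 4], [3, 4], [0, 1, 3, 4, 6], [2, 3, 4], [0, 1, 2, 5, 6], [2,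
       3, 4, 6], [0, 1, 2, 5], [2, 5], [0, 1, 2, 3, 4], [0, 1, 3, 4, 5, 6], [2, 5, 6]]),
   (4, [[], [2], [2, 4, 5], [4, 5]])]

/-- generators -/
def xs3 : List (ℕ × ℕ) :=
  [(4924673, 237031237397377521681229538941504977),
   (2392899, 735339576546733968313848542517067873),
   (2890176, 154004956544183571691267305880913440),
   (2854977, 236924422208829032071588973438360593),
   (12325377, 29217344650974509451812743540053559),
   (3704512, 984818244535754528103549039458486304),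
   (0, 984612649355406094121217942427387040),
   (902657, 153963345543789787303735486722065582),
   (2702848, 984818244535754528103549039458486304),
   (4038912, 984818244535754528103549039458486304)]

/-- relations -/
def c3 : Cert where
  gw := [[0], [1], [2], [3], [4], [5], [6], [7], [8], [9]]
  sq := [[4, 6, 8, 9], [4, 7, 8, 9], [6, 8, 9], [4, 5, 6, 7], [9], [], [], [9], [], []]
  cm := [[[], [5, 6, 8], [4, 7, 8], [5, 7], [7, 9], [8, 9], [7, 9], [8, 9], [], []],
    [[], [], [4, 5, 6, 7, 8], [5, 6, 7, 8], [8, 9], [8], [7, 9], [8], [9], []],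
    [[], [], [], [4, 5, 7, 8, 9], [7, 8], [8], [9], [8], [9], []],
    [[], [], [], [], [7, 8, 9], [8], [7, 8], [8, 9], [], []],
    [[], [], [], [], [], [9], [8], [9], [], []],
    [[], [], [], [], [], [], [9], [], [], []],
    [[], [], [], [], [], [], [], [9], [], []],
    [[], [], [], [], [], [], [], [], [], []],
    [[], [], [], [], [], [], [], [], [], []],
    [[], [], [], [], [], [], [], [], [], []]]
  dv := [([], [], []),
    ([], [], []),
    ([], [], []),
    ([], [], []),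
    ([2, 3, 4, 5], [0, 1, 3, 6, 8, 9], []),
    ([0, 3, 4, 5], [2, 5, 9], []),
    ([1, 3, 5, 6], [2, 5, 9], []),
    ([1, 3, 6, 7, 9], [4, 5, 7], []),
    ([2, 5, 9], [7], []),
    ([1, 3, 5, 6], [8, 9], [])]

/-- the chain of stabilizers -/
def lv3 : List (ℕ × List (List ℕ)) :=
  [(0, [[], [0], [4, 6, 8, 9], [0, 4, 6, 8, 9], [0, 1, 5, 6], [1, 4, 5, 7, 8], [0, 1, 4, 5, 7, 8], [1, 5, 6, 8]]),
   (16, [[], [8, 9], [0, 1, 5, 6, 7], [0, 1, 5, 6, 7, 8, 9], [6, 9], [0, 1, 5, 7, 8, 9], [5, 6, 9], [0, 1, 7, 8], [0,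
       1, 2, 5, 6, 7], [2, 6, 8, 9], [0, 1, 2, 5, 7, 9], [2, 8, 9], [0, 1, 2, 7], [2, 5, 8], [0, 1, 2, 6, 7], [2, 5,
       6, 8, 9]]),
   (12, [[], [5]]),
   (18, [[], [8]]),
   (14, [[], [0, 3, 4, 8]])]

/-- generators -/
def xsA : List (ℕ × ℕ) :=
  [(4830945, 735587983175154151975762742722235845),
   (3246601, 28903172792745629081175281359066179),
   (12325377, 29110984592773736638968905211528375),
   (1618953, 610645700039170093514306231153460291),
   (0, 984612649355406094121217942427387040),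
   (3172097, 153963345543789787303735486722065582),
   (1351424, 984818244535754528103549039458486304),
   (4038912, 984818244535754528103549039458486304)]

/-- relations -/
def cA : Cert where
  gw := [[0], [1], [2], [3], [4], [5], [6], [7]]
  sq := [[], [5], [6, 7], [7], [], [7], [], []]
  cm := [[[], [5], [3, 4, 7], [5, 7], [5, 6], [7], [], []],
    [[], [], [4, 5, 7], [5], [6], [], [7], []],
    [[], [], [], [], [6, 7], [6], [], []],
    [[], [], [], [], [6], [7], [], []],
    [[], [], [], [], [], [7], [], []],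
    [[], [], [], [], [], [], [], []],
    [[], [], [], [], [], [], [], []],
    [[], [], [], [], [], [], [], []]]
  dv := [([], [], []),
    ([], [], []),
    ([], [], []),
    ([1, 2, 3, 6], [0, 2, 3, 4, 7], []),
    ([2, 3, 4], [1, 3, 5, 6], []),
    ([1, 3, 5, 6], [3, 4, 6, 7], []),
    ([0, 2, 3, 7], [5, 6], []),
    ([1, 3, 5, 6], [6], [])]

/-- the chain of stabilizers -/
def lvA : List (ℕ × List (List ℕ)) :=
  [(0, [[], [0], [0, 1, 5], [0, 5, 7], [0, 1], [1], [5], [1, 5]]),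
   (16, [[], [7], [1, 2], [4], [1, 2, 4, 7], [1, 2, 4], [4, 7], [1, 2, 7], [1, 3, 4, 5, 7], [1, 3, 4, 5, 6, 7], [2, 3,
       5, 7], [1, 3, 5, 6, 7], [1, 3, 5, 7], [2, 3, 4, 5, 6, 7], [2, 3, 4, 5, 6], [2, 3, 5]]),
   (18, [[], [6, 7]])]

/-- the vector of norm 48 -/
def v3 : List ℤ := [-2, 2, 2, 2, 4, 2, 0, 0, 0, 0, 0, 0, 0, 0, 2, 0, 0, 2, 0, 0, 0, 0, 0, 2]

/-- the vector of norm 32 -/
def vA : List ℤ := [-2, 0, 0, 2, 2, 0, 2, 2, 0, 0, 0, 0, 0, 0, 2, 0, 0, 0, 0, 0, 0, 0, -2, 2]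

theorem chk0 : ∀ i < 22, chk1 (eqA xs0) 22 5 c0 i = true := by decide +kernel

theorem end0 : endB xs0 22 5 c0 lv0 = true := by decide +kernel

theorem ab0 [Finite Co0] : Nat.card (V (el xs0) 22 0) = 2 ^ 22 ∧ ab (V (el xs0) 22 0) = 2 ^ 5 :=
  ab_of_cert chk0 end0

theorem chk2 : ∀ i < 18, chk1 (eqA xs2) 18 5 c2 i = true := by decide +kernel

theorem end2 : endB xs2 18 5 c2 lv2 = true := by decide +kernel

theorem ab2 [Finite Co0] : Nat.card (V (el xs2) 18 0) = 2 ^ 18 ∧ ab (V (el xs2) 18 0) = 2 ^ 5 :=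
  ab_of_cert chk2 end2

theorem chkM : ∀ i < 7, chk1 (eqA xsM) 7 3 cM i = true := by decide +kernel

theorem endM : endB xsM 7 3 cM lvM = true := by decide +kernel

theorem abM [Finite Co0] : Nat.card (V (el xsM) 7 0) = 2 ^ 7 ∧ ab (V (el xsM) 7 0) = 2 ^ 3 :=
  ab_of_cert chkM endM

theorem chk3 : ∀ i < 10, chk1 (eqA xs3) 10 4 c3 i = true := by decide +kernel

theorem end3 : endB xs3 10 4 c3 lv3 = true := by decide +kernel

theorem ab3 [Finite Co0] : Nat.card (V (el xs3) 10 0) = 2 ^ 10 ∧ ab (V (el xs3) 10 0) = 2 ^ 4 :=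
  ab_of_cert chk3 end3

theorem chkA : ∀ i < 8, chk1 (eqA xsA) 8 3 cA i = true := by decide +kernel

theorem endA : endB xsA 8 3 cA lvA = true := by decide +kernel

theorem abA [Finite Co0] : Nat.card (V (el xsA) 8 0) = 2 ^ 8 ∧ ab (V (el xsA) 8 0) = 2 ^ 3 :=
  ab_of_cert chkA endA

end Cfsg.Agent.MK.S3
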