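import Cfsg.Agent.MK.S5.Gen
import Cfsg.Agent.MK.T.C
import Cfsg.Agent.SporadicA.Co0Basic
import Cfsg.Agent.SporadicA.GolayPerm

/-!
# MK, monomial `2`-subgroups of `Co0` from a polycyclic certificate (helper46)

* `mono (C, P)` : the sign change on the code word `C` after the permutation `P`;
* `ab_of_cert` : the order and the order of the commutator factor group of the group of a certificate.
-/

set_option autoImplicit false

namespace Cfsg.Agent.MK.S3

open Cfsg Subgroup Cfsg.Agent.MK.T Cfsg.Agent.MK.S.Pc Cfsg.Agent.SporadicA.GolayBase Cfsg.Agent.SporadicA.GolayPerm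
  Cfsg.Agent.SporadicA.Co0Basic

/-- a Sylow subgroup given by an embedding -/
theorem a2_of_emb {G W : Type} [Group G] [Finite G] [Group W] (j : W →* G) (hj : Function.Injective j) {n k : ℕ}
    (hc : Nat.card W = 2 ^ n) (hk : Odd k) (hG : Nat.card G = 2 ^ n * k) : a2 G = ab W := by
  have e := MonoidHom.ofInjective hj
  rw [S5.a2_of_sub (MonoidHom.id G) Function.injective_id j.range (fun x _ => ⟨x, rfl⟩)
    ((Nat.card_congr e.toEquiv).symm.trans hc) hk hG]
  exact (ab_congr e).symm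

/-- the vectors of the standard frame -/
def fr (c : ℕ) : leechLattice := if c % 2 = 0 then e8 (pt (c / 2)) else -e8 (pt (c / 2))

theorem fr_inj {c d : ℕ} (hc : c < 48) (hd : d < 48) (h : fr c = fr d) : c = d := by
  have h1 := congrArg (fun u : leechLattice => (u : GolayPt → ℤ) (pt (c / 2))) h
  have h2 : pt (c / 2) = pt (d / 2) → c / 2 = d / 2 := fun e => by
    rw [← idx_pt (i := c / 2) (by omega), e, idx_pt (by omega)]
  unfold fr at h1
  by_cases h3 : pt (c / 2) = pt (d / 2)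
  · have h4 := h2 h3
    split_ifs at h1 <;> simp only [AddSubgroup.coe_neg, Pi.neg_apply, e8_apply, h3, if_true] at h1 <;> omega
  · split_ifs at h1 <;> simp only [AddSubgroup.coe_neg, Pi.neg_apply, e8_apply, h3, if_true, if_false] at h1 <;> omega

/-- the data are those of a monomial element -/
def okM (x : ℕ × ℕ) : Bool := isCode x.1 && (isPerm x.2 && isAut x.2)

theorem okM_1 {x : ℕ × ℕ} (h : okM x = true) : word x.1 ∈ golayCode := by
  rw [← isCode_iff.1 (Bool.and_eq_true_iff.1 h).1]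
  exact enc_mem _

theorem okM_2 {x : ℕ × ℕ} (h : okM x = true) : isPerm x.2 = true := (Bool.and_eq_true_iff.1 (Bool.and_eq_true_iff.1 h).2).1

theorem okM_3 {x : ℕ × ℕ} (h : okM x = true) : permOf x.2 (okM_2 h) ∈ M24 :=
  permOf_mem_M24 _ (Bool.and_eq_true_iff.1 (Bool.and_eq_true_iff.1 h).2).2

theorem exists_mono (x : ℕ × ℕ) : ∃ g : Co0, ∀ (h : okM x = true) (v : leechLattice) (p : GolayPt),
    (g.1 v : GolayPt → ℤ) (permOf x.2 (okM_2 h) p) =
      if x.1.testBit (papp x.2 (idx p)) then -(v : GolayPt → ℤ) p else (v : GolayPt → ℤ) p := by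
  by_cases h : okM x = true
  · refine ⟨signCo0 (word x.1) (okM_1 h) * permCo0 (permOf x.2 (okM_2 h)) (okM_3 h), fun _ v p => ?_⟩
    have e : ∀ (a b : Co0) (v : leechLattice), (a * b).1 v = a.1 (b.1 v) := fun _ _ _ => rfl
    rw [e, signCo0_apply, permCo0_apply, Equiv.Perm.coe_inv, Equiv.symm_apply_apply, word_apply, idx_permOf]
    cases x.1.testBit (papp x.2 (idx p)) <;> simp
  · exact ⟨1, fun h' => absurd h' h⟩

/-- a monomial element -/
noncomputable def mono (x : ℕ × ℕ) : Co0 := Classical.choose (exists_mono x)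

theorem mono_apply {x : ℕ × ℕ} (h : okM x = true) (v : leechLattice) (p : GolayPt) :
    ((mono x).1 v : GolayPt → ℤ) (permOf x.2 (okM_2 h) p) =
      if x.1.testBit (papp x.2 (idx p)) then -(v : GolayPt → ℤ) p else (v : GolayPt → ℤ) p :=
  Classical.choose_spec (exists_mono x) h v p

/-- the action on the frame -/
def act (x : ℕ × ℕ) (c : ℕ) : ℕ := 2 * papp x.2 (c / 2) + (c + x.1 >>> papp x.2 (c / 2)) % 2

theorem mono_e8 {x : ℕ × ℕ} (h : okM x = true) {i : ℕ} (hi : i < 24) : (mono x).1 (e8 (pt i)) =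
    if x.1.testBit (papp x.2 i) then -e8 (pt (papp x.2 i)) else e8 (pt (papp x.2 i)) := by
  have e : pt (papp x.2 i) = permOf x.2 (okM_2 h) (pt i) := by rw [permOf_apply, idx_pt hi]
  apply Subtype.ext
  funext q
  obtain ⟨p, rfl⟩ := (permOf x.2 (okM_2 h)).surjective q
  rw [mono_apply h, e]
  by_cases hp : p = pt i
  · subst hp
    rw [idx_pt hi]
    split_ifs <;> simp [e8_apply]
  · split_ifs <;> simp [e8_apply, hp]

theorem mono_fr {x : ℕ × ℕ} (h : okM x = true) {c : ℕ} (hc : c < 48) :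
    act x c < 48 ∧ (mono x).1 (fr c) = fr (act x c) := by
  have h1 := papp_lt (okM_2 h) (i := c / 2) (by omega)
  have h2 := ite_testBit x.1 (papp x.2 (c / 2))
  have h3 : act x c / 2 = papp x.2 (c / 2) := by unfold act; omega
  have h4 : act x c % 2 = (c + x.1 >>> papp x.2 (c / 2)) % 2 := by unfold act; omega
  refine ⟨by unfold act; omega, ?_⟩
  unfold fr
  rw [h3, h4, apply_ite (mono x).1, SporadicA.Co0Basic.map_neg, mono_e8 h (by omega)]
  split_ifs at h2 ⊢ <;> first | rfl | omega | exact neg_neg _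

/-- the identity -/
def idM : ℕ × ℕ := (0, 984818244535754528103549039458486304)

/-- the elements of a list -/
noncomputable def el (xs : List (ℕ × ℕ)) (a : ℕ) : Co0 := mono (xs.getD a idM)

theorem ok_getD {xs : List (ℕ × ℕ)} (h : xs.all okM = true) (a : ℕ) : okM (xs.getD a idM) = true := by
  rw [List.getD_eq_getElem?_getD]
  cases e : xs[a]? with
  | none => decide +kernel
  | some x => exact List.all_eq_true.1 h x (List.mem_of_getElem? e)

/-- the action of a word -/
def evA (xs : List (ℕ × ℕ)) (w : List ℕ) (c : ℕ) : ℕ := w.foldr (fun a d => act (xs.getD a idM) d) c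

theorem evA_spec {xs : List (ℕ × ℕ)} (h : xs.all okM = true) {c : ℕ} (hc : c < 48) :
    ∀ w, evA xs w c < 48 ∧ (ev (el xs) w).1 (fr c) = fr (evA xs w c)
  | [] => ⟨hc, rfl⟩
  | a :: w => by
    obtain ⟨h1, h2⟩ := evA_spec h hc w
    obtain ⟨h3, h4⟩ := mono_fr (ok_getD h a) h1
    refine ⟨h3, ?_⟩
    rw [ev_cons]
    show (mono _).1 ((ev (el xs) w).1 (fr c)) = _
    rw [h2, h4]
    rfl

/-- two words have the same value -/
def eqA (xs : List (ℕ × ℕ)) (v w : List ℕ) : Bool :=
  (List.range 24).all fun i => Nat.beq (evA xs v (2 * i)) (evA xs w (2 * i))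

theorem eqA_ok {xs : List (ℕ × ℕ)} (h : xs.all okM = true) (v w : List ℕ) (e : eqA xs v w = true) :
    ev (el xs) v = ev (el xs) w := ext_e8 fun p => by
  have h1 := idx_lt p
  have h2 : fr (2 * idx p) = e8 p := by
    rw [fr, if_pos (by omega), show 2 * idx p / 2 = idx p by omega, pt_idx]
  rw [← h2, (evA_spec h (by omega) v).2, (evA_spec h (by omega) w).2,
    Nat.eq_of_beq_eq_true (List.all_eq_true.1 e _ (List.mem_range.2 h1))]

/-- the stabilizer of some vectors of the frame -/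
def Sb (bs : List ℕ) : Subgroup Co0 where
  carrier := {g | ∀ b ∈ bs, g.1 (fr b) = fr b}
  one_mem' _ _ := rfl
  mul_mem' {g k} ha hb i hi := by
    show g.1 (k.1 _) = _
    rw [hb i hi, ha i hi]
  inv_mem' {g} ha i hi := Equiv.Perm.inv_eq_iff_eq.2 (ha i hi).symm

/-- a chain of stabilizers -/
def chn (xs : List (ℕ × ℕ)) (n : ℕ) : List (ℕ × List (List ℕ)) → List ℕ → Bool
  | [], _ => true
  | v :: lv, bs => Nat.blt v.1 48 && (v.2.all fun w => inR 0 n w && bs.all fun b => Nat.beq (evA xs w b) b) &&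
      decide (v.2.map fun w => evA xs w v.1).Nodup && chn xs n lv (v.1 :: bs)

theorem chn_realised : True := by
  have := @chn.eq_def
  trivial

theorem chn_spec [Finite Co0] {xs : List (ℕ × ℕ)} (h : xs.all okM = true) {n : ℕ} :
    ∀ (lv : List (ℕ × List (List ℕ))) (bs : List ℕ), chn xs n lv bs = true → (∀ b ∈ bs, b < 48) →
      (lv.map fun v => v.2.length).prod ≤ Nat.card (V (el xs) n 0 ⊓ Sb bs : Subgroup Co0)
  | [], _, _, _ => Nat.card_pos
  | v :: lv, bs, hc, hb => by
    classical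
    simp only [chn, Bool.and_eq_true, List.all_eq_true, decide_eq_true_eq, Nat.blt_eq] at hc
    obtain ⟨⟨⟨h1, h2⟩, h3⟩, h4⟩ := hc
    have h5 := chn_spec h lv _ h4 (List.forall_mem_cons.2 ⟨h1, hb⟩)
    have h7 : V (el xs) n 0 ⊓ Sb (v.1 :: bs) ≤ V (el xs) n 0 ⊓ Sb bs :=
      inf_le_inf_left _ fun g hg b hb => hg b (List.mem_cons_of_mem _ hb)
    generalize hB : V (el xs) n 0 ⊓ Sb bs = B at h7
    have hf : ∀ w ∈ v.2, ev (el xs) w ∈ B := fun w hw => hB ▸ ⟨inR_mem (h2 w hw).1, fun b hb' => by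
      rw [(evA_spec h (hb b hb') w).2, Nat.eq_of_beq_eq_true ((h2 w hw).2 b hb')]⟩
    have h6 : v.2.length ≤ ((V (el xs) n 0 ⊓ Sb (v.1 :: bs)).subgroupOf B).index := by
      have := Fintype.ofFinite (B ⧸ (V (el xs) n 0 ⊓ Sb (v.1 :: bs)).subgroupOf B)
      rw [Subgroup.index, Nat.card_eq_fintype_card, ← List.length_attach, ← List.length_map fun w : {w // w ∈ v.2} =>
        (QuotientGroup.mk ⟨_, hf w.1 w.2⟩ : B ⧸ (V (el xs) n 0 ⊓ Sb (v.1 :: bs)).subgroupOf B)]
      refine List.Nodup.length_le_card (List.Nodup.map_on (fun w _ w' _ e => ?_)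
        (List.nodup_attach.2 (List.Nodup.of_map _ h3)))
      have h8 : ((ev (el xs) w.1).1⁻¹ ((ev (el xs) w'.1).1 (fr v.1))) = fr v.1 :=
        (QuotientGroup.eq.1 e).2 v.1 List.mem_cons_self
      rw [Equiv.Perm.inv_eq_iff_eq, (evA_spec h h1 _).2, (evA_spec h h1 _).2] at h8
      exact Subtype.ext (List.inj_on_of_nodup_map h3 w.2 w'.2
        (fr_inj (evA_spec h h1 _).1 (evA_spec h h1 _).1 h8).symm)
    rw [← card_mul_index ((V (el xs) n 0 ⊓ Sb (v.1 :: bs)).subgroupOf B),
      Nat.card_congr (subgroupOfEquivOfLe h7).toEquiv, List.map_cons, List.prod_cons, mul_comm]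
    exact Nat.mul_le_mul h5 h6

/-- the rest of the check -/
def endB (xs : List (ℕ × ℕ)) (n m : ℕ) (c : Cert) (lv : List (ℕ × List (List ℕ))) : Bool :=
  xs.all okM && Nat.ble m n && ((List.range n).all fun a => c.gw.getD a [] == [a]) && chn xs n lv [] &&
    Nat.ble (2 ^ n) (lv.map fun v => v.2.length).prod

/-- **the group of a certificate** -/
theorem ab_of_cert [Finite Co0] {xs : List (ℕ × ℕ)} {n m : ℕ} {c : Cert} {lv : List (ℕ × List (List ℕ))}
    (hc : ∀ i < n, chk1 (eqA xs) n m c i = true) (hl : endB xs n m c lv = true) :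
    Nat.card (V (el xs) n 0) = 2 ^ n ∧ ab (V (el xs) n 0) = 2 ^ m := by
  simp only [endB, Bool.and_eq_true, Nat.ble_eq] at hl
  obtain ⟨⟨⟨⟨h1, h2⟩, h3⟩, h4⟩, h5⟩ := hl
  have h6 := pc_of_chk (eqA_ok h1) h2 hc
  have h7 : ∀ a < n, c.el (el xs) a = el xs a := fun a ha => by
    rw [Cert.el, beq_iff_eq.1 (List.all_eq_true.1 h3 a (List.mem_range.2 ha)), ev_cons, ev_nil, mul_one]
  have h8 : V (c.el (el xs)) n 0 = V (el xs) n 0 :=
    le_antisymm (V_le fun i h9 hi => h7 i hi ▸ mem_V h9 hi) (V_le fun i h9 hi => h7 i hi ▸ mem_V h9 hi)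
  have h9 : 2 ^ n ≤ Nat.card (V (c.el (el xs)) n 0) := by
    rw [h8]
    exact (h5.trans (chn_spec h1 lv [] h4 fun _ hb => absurd hb List.not_mem_nil)).trans (card_le_of_le inf_le_left)
  rw [← h8]
  exact ⟨h6.card_eq h9 (Nat.zero_le n), h6.index h9⟩

/-- the vector of a list -/
def vec (u : List ℤ) (p : GolayPt) : ℤ := u.getD (idx p) 0

/-- the image of a vector -/
def mapB (u w : List ℤ) (x : ℕ × ℕ) : Bool :=
  (List.range 24).all fun i => w.getD (papp x.2 i) 0 == if x.1.testBit (papp x.2 i) then -u.getD i 0 else u.getD i 0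

theorem mapB_ok {u w : List ℤ} {x : ℕ × ℕ} (h : okM x = true) (e : mapB u w x = true) {a b : leechLattice}
    (ha : (a : GolayPt → ℤ) = vec u) (hb : (b : GolayPt → ℤ) = vec w) : (mono x).1 a = b := by
  apply Subtype.ext
  funext q
  obtain ⟨p, rfl⟩ := (permOf x.2 (okM_2 h)).surjective q
  rw [mono_apply h, ha, hb, vec, vec, idx_permOf]
  exact (beq_iff_eq.1 (List.all_eq_true.1 e _ (List.mem_range.2 (idx_lt p)))).symm

theorem V_le_of {xs : List (ℕ × ℕ)} {H : Subgroup Co0} (h : ∀ x ∈ xs, mono x ∈ H) : V (el xs) xs.length 0 ≤ H :=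
  V_le fun i _ hi => by
    rw [el, List.getD_eq_getElem _ _ hi]
    exact h _ (List.getElem_mem hi)

end Cfsg.Agent.MK.S3
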