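import Cfsg.Agent.MK.S3.Dat
import Cfsg.Agent.S0397
import Cfsg.Prelude.Def_Spor_Conway

/-!
# MK, the vectors fixed by the monomial groups (helper46)
-/

set_option autoImplicit false
set_option maxRecDepth 100000

namespace Cfsg.Agent.MK.S3

open Cfsg Subgroup Cfsg.Agent.MK.T Cfsg.Agent.MK.S.Pc Cfsg.Agent.SporadicA.GolayBase Cfsg.Agent.SporadicA.Co0Basic

theorem finite_co0 : Finite Co0 := Nat.finite_of_card_ne_zero (by rw [S0397.result]; norm_num)

theorem center_bot {G : Type} [Group G] [Finite G] [IsSimpleGroup G] (h : ¬ (Nat.card G).Prime) : center G = ⊥ := by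
  refine (inferInstance : (center G).Normal).eq_bot_or_eq_top.resolve_right fun h1 => h ?_
  let _ := Group.commGroupOfCenterEqTop h1
  exact IsSimpleGroup.prime_card

theorem mem_even (x : GolayPt → ℤ) (h1 : ∀ i, x i ≡ 0 [ZMOD 2]) (h2 : ∑ i, x i ≡ 4 * 0 [ZMOD 8])
    (h3 : ∀ k : Fin 4, isCode (maskW (resWord x (k : ℕ))) = true) : x ∈ leechLattice := by
  refine AddSubgroup.subset_closure ((mem_leechSet_iff x).2 ⟨0, h1, h2, fun k => ?_⟩)
  have e : resWord x k = resWord x ((⟨(k % 4).toNat, by omega⟩ : Fin 4) : ℕ) := by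
    funext p
    unfold resWord Int.ModEq
    congr 2
    show k % 4 = ((k % 4).toNat : ℤ) % 4
    omega
  rw [e]
  exact (mem_golayCode_iff _).2 (h3 _)

/-- the vector of norm `48` -/
def w3 : leechLattice := ⟨vec v3, mem_even _ (by decide +kernel) (by decide +kernel) (by decide +kernel)⟩

/-- the vector of norm `32` -/
def wA : leechLattice := ⟨vec vA, mem_even _ (by decide +kernel) (by decide +kernel) (by decide +kernel)⟩

/-- the difference -/
def vB : List ℤ := List.zipWith (· - ·) v3 vA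

theorem coe_B : ((w3 - wA : leechLattice) : GolayPt → ℤ) = vec vB :=
  funext (show ∀ p, vec v3 p - vec vA p = vec vB p by decide +kernel)

theorem norm_3 : sqNorm (w3 : GolayPt → ℤ) = 48 := show sqNorm (vec v3) = 48 by decide +kernel

theorem norm_A : sqNorm (wA : GolayPt → ℤ) = 32 := show sqNorm (vec vA) = 32 by decide +kernel

theorem norm_B : sqNorm ((w3 - wA : leechLattice) : GolayPt → ℤ) = 32 := by
  rw [coe_B]
  decide +kernel

/-- the coordinates of `U` -/
def vU : List ℤ := [4, 0, 0, 0, 0, 0, 0, 0, 0, 0, 0, 0, 0, 0, 0, 0, 0, 0, 0, 0, 0, 0, 0, 4]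

/-- the coordinates of `V` -/
def vV : List ℤ := [-1, -1, -1, -1, -1, -1, -1, -1, -1, -1, -1, -1, -1, -1, -1, -1, -1, -1, -1, -1, -1, -1, -1, -5]

theorem coe_U : (Spor.leechU : GolayPt → ℤ) = vec vU := funext (show ∀ p, Spor.vecU p = vec vU p by decide +kernel)

theorem coe_V : (Spor.leechV : GolayPt → ℤ) = vec vV := funext (show ∀ p, Spor.vecV p = vec vV p by decide +kernel)

theorem fix2 : V (el xs2) 18 0 ≤ MulAction.stabilizer Co0 Spor.leechU := by
  have h : ∀ x ∈ xs2, okM x = true ∧ mapB vU vU x = true := by decide +kernel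
  exact V_le_of (xs := xs2) fun x hx => mapB_ok (h x hx).1 (h x hx).2 coe_U coe_U

theorem fix3 : V (el xs3) 10 0 ≤ MulAction.stabilizer Co0 w3 := by
  have h : ∀ x ∈ xs3, okM x = true ∧ mapB v3 v3 x = true := by decide +kernel
  exact V_le_of (xs := xs3) fun x hx => mapB_ok (h x hx).1 (h x hx).2 rfl rfl

theorem fixM : V (el xsM) 7 0 ≤ MulAction.stabilizer Co0 Spor.leechV ⊓ MulAction.stabilizer Co0 Spor.leechU := by
  have h : ∀ x ∈ xsM, okM x = true ∧ mapB vV vV x = true ∧ mapB vU vU x = true := by decide +kernel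
  exact V_le_of (xs := xsM) fun x hx =>
    ⟨mapB_ok (h x hx).1 (h x hx).2.1 coe_V coe_V, mapB_ok (h x hx).1 (h x hx).2.2 coe_U coe_U⟩

/-- the stabilizer of `v` and of the pair `a`, `v - a` -/
def Pr (v a : leechLattice) : Subgroup Co0 where
  carrier := {g | g.1 v = v ∧ (g.1 a = a ∨ g.1 a = v - a)}
  one_mem' := ⟨rfl, Or.inl rfl⟩
  mul_mem' {g k} hg hk := by
    have e : ∀ x, (g * k).1 x = g.1 (k.1 x) := fun _ => rfl
    refine ⟨by rw [e, hk.1, hg.1], ?_⟩
    rw [e]
    rcases hk.2 with h | h <;> rw [h]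
    · exact hg.2
    · rw [← toHom_apply, map_sub, toHom_apply, toHom_apply, hg.1]
      rcases hg.2 with h | h <;> rw [h]
      exacts [Or.inr rfl, Or.inl (sub_sub_cancel v a)]
  inv_mem' {g} hg := by
    refine ⟨Equiv.Perm.inv_eq_iff_eq.2 hg.1.symm, hg.2.imp (fun h => Equiv.Perm.inv_eq_iff_eq.2 h.symm)
      fun h => Equiv.Perm.inv_eq_iff_eq.2 ?_⟩
    rw [← toHom_apply, map_sub, toHom_apply, toHom_apply, hg.1, h, sub_sub_cancel]

theorem fixA : V (el xsA) 8 0 ≤ Pr w3 wA := by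
  have h : ∀ x ∈ xsA, okM x = true ∧ mapB v3 v3 x = true ∧ (mapB vA vA x = true ∨ mapB vA vB x = true) := by
    decide +kernel
  exact V_le_of (xs := xsA) fun x hx => ⟨mapB_ok (h x hx).1 (h x hx).2.1 rfl rfl,
    (h x hx).2.2.imp (fun e => mapB_ok (h x hx).1 e rfl rfl) fun e => mapB_ok (h x hx).1 e rfl coe_B⟩

end Cfsg.Agent.MK.S3
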